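import Groth.Agent.H23EtCover.Lift
import Groth.Agent.H23Az.SpreadInner
import Mathlib.RingTheory.Localization.Away.Basic

/-! # Splitting and inner automorphisms after an étale cover of the base ring -/

set_option autoImplicit false

universe u v w

open TensorProduct

namespace Groth.Agent.H23EtCover

variable {S : Type u} {R : Type v} [CommRing S] [CommRing R] [Algebra S R]
  {A : Type w} [Ring A] [Algebra S A] [Algebra R A] [IsScalarTower S R A]
  (S' : Type u) [CommRing S'] [Algebra S S']

variable (S R A) in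
/-- `S' ⊗ R → S' ⊗ A`. -/
noncomputable def toA : S' ⊗[S] R →ₐ[S'] S' ⊗[S] A :=
  Algebra.TensorProduct.map (AlgHom.id S' S') (IsScalarTower.toAlgHom S R A)

theorem toA_tmul (s : S') (r : R) : toA S R A S' (s ⊗ₜ r) = s ⊗ₜ algebraMap R A r := rfl

theorem toA_commute (t : S' ⊗[S] R) (z : S' ⊗[S] A) : toA S R A S' t * z = z * toA S R A S' t := by
  induction t using TensorProduct.induction_on with
  | zero => simp
  | add x y hx hy => rw [map_add, add_mul, mul_add, hx, hy]
  | tmul s r =>
    induction z using TensorProduct.induction_on with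
    | zero => simp
    | add x y hx hy => rw [mul_add, add_mul, hx, hy]
    | tmul s' a =>
      rw [toA_tmul, Algebra.TensorProduct.tmul_mul_tmul, Algebra.TensorProduct.tmul_mul_tmul,
        mul_comm s s', Algebra.commutes]

section Split

theorem exists_split_base [Algebra.IsIntegral S R] [IsAzumaya R A] (n : ℕ)
    (hrk : ∀ p : PrimeSpectrum R, Module.rankAtStalk (R := R) A p = n ^ 2) :
    ∃ (S'' : Type u) (_ : CommRing S'') (_ : Algebra S S'') (_ : Algebra.Etale S S'')
      (_ : Module.FaithfullyFlat S S'') (f : S'' ⊗[S] A ≃ₐ[S''] Matrix (Fin n) (Fin n) (S'' ⊗[S] R)),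
      ∀ (t : S'' ⊗[S] R) (z : S'' ⊗[S] A),
        f (toA S R A S'' t * z) = Matrix.scalar (Fin n) t * f z := by
  classical
  obtain ⟨U, hU, hUA, hUE, hUF, θ, hθ⟩ := exists_etale_splitting'.{v, w, max u v} R A n hrk
  obtain ⟨S', hS', hA', hE', hF', ψ, hψ⟩ := exists_refinement'.{u, v, max v w} S R U
    PrimeSpectrum.comap_surjective_of_faithfullyFlat
  let T := S' ⊗[S] R
  let ιR : R →+* T := (Algebra.TensorProduct.includeRight : R →ₐ[S] T).toRingHom
  let θT : A →+* Matrix (Fin n) (Fin n) T := ψ.mapMatrix.comp θ.toRingHom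
  have hθTr : ∀ r : R, θT (algebraMap R A r) = Matrix.scalar (Fin n) (ιR r) := fun r => by
    simp only [θT, RingHom.comp_apply, AlgHom.toRingHom_eq_coe, RingHom.coe_coe, AlgHom.commutes,
      RingHom.mapMatrix_apply, Matrix.algebraMap_eq_diagonal, Matrix.diagonal_map (map_zero ψ)]
    rw [Matrix.scalar_apply]
    congr 1
    funext i
    exact hψ r
  let θS : A →ₐ[S] Matrix (Fin n) (Fin n) T :=
    { θT with
      commutes' := fun s => by
        show θT (algebraMap S A s) = _
        rw [IsScalarTower.algebraMap_apply S R A, hθTr, Matrix.algebraMap_eq_diagonal, Matrix.scalar_apply]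
        congr 1
        funext i
        exact (Algebra.TensorProduct.includeRight : R →ₐ[S] T).commutes s }
  let F : S' ⊗[S] A →ₐ[S'] Matrix (Fin n) (Fin n) T :=
    Algebra.TensorProduct.lift (Algebra.ofId S' _) θS fun s a => Algebra.commutes s _
  have hF : ∀ (s : S') (a : A), F (s ⊗ₜ[S] a) = algebraMap S' (Matrix (Fin n) (Fin n) T) s * θT a :=
    fun s a => Algebra.TensorProduct.lift_tmul (Algebra.ofId S' _) θS (fun s a => Algebra.commutes s _) s a
  have hFj : ∀ t : T, F (toA S R A S' t) = Matrix.scalar (Fin n) t := fun t => by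
    induction t using TensorProduct.induction_on with
    | zero => simp
    | add x y hx hy => simp only [map_add, hx, hy]
    | tmul s r =>
      rw [toA_tmul, hF, hθTr, IsScalarTower.algebraMap_apply S' T (Matrix (Fin n) (Fin n) T)]
      rw [show algebraMap T (Matrix (Fin n) (Fin n) T) = Matrix.scalar (Fin n) from rfl, ← map_mul]
      congr 1
      simp [T, ιR]
  have hsurj : Function.Surjective F := by
    have key : ∀ z : U ⊗[R] A, ((Algebra.TensorProduct.lift (Algebra.ofId U (Matrix (Fin n) (Fin n) U)) θ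
        fun x _ => Algebra.commutes x _) z).map ψ ∈ Set.range F := fun z => by
      induction z using TensorProduct.induction_on with
      | zero => exact ⟨0, by simp⟩
      | add x y hx hy =>
        obtain ⟨a, ha⟩ := hx; obtain ⟨b, hb⟩ := hy
        exact ⟨a + b, by rw [map_add, map_add, ha, hb, Matrix.map_add ψ (map_add ψ)]⟩
      | tmul y a =>
        refine ⟨toA S R A S' (ψ y) * ((1 : S') ⊗ₜ[S] a), ?_⟩
        erw [map_mul, hFj, hF, map_one, one_mul, Algebra.TensorProduct.lift_tmul (Algebra.ofId U _) θ]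
        show _ = ψ.mapMatrix (algebraMap U (Matrix (Fin n) (Fin n) U) y * θ a)
        rw [map_mul]
        congr 1
        simp [Matrix.algebraMap_eq_diagonal, Matrix.diagonal_map, Function.comp_def]
    intro M
    rw [Matrix.matrix_eq_sum_single M]
    have : ∀ i j, ∃ z, F z = Matrix.single i j (M i j) := fun i j => by
      obtain ⟨w', hw'⟩ := hθ (Matrix.single i j 1)
      obtain ⟨z, hz⟩ := key w'
      refine ⟨toA S R A S' (M i j) * z, ?_⟩
      rw [map_mul, hFj, hz, hw', Matrix.map_single _ _ _ ψ, map_one]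
      ext a b
      simp [Matrix.single_apply]
    choose z hz using this
    exact ⟨∑ i, ∑ j, z i j, by simp [map_sum, hz]⟩
  have hinj : Function.Injective F := by
    letI : Algebra R T := ιR.toAlgebra
    let θ' : A →ₐ[R] Matrix (Fin n) (Fin n) T := { θT with commutes' := hθTr }
    let Φ := Algebra.TensorProduct.lift (Algebra.ofId T (Matrix (Fin n) (Fin n) T)) θ'
      fun x _ => Algebra.commutes x _
    let e : S' ⊗[S] A → T ⊗[R] A := fun z => TensorProduct.liftAddHom
      (AddMonoidHom.mk' (fun s : S' => AddMonoidHom.mk' (fun a : A => (s ⊗ₜ[S] (1 : R) : T) ⊗ₜ[R] a)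
          fun a b => TensorProduct.tmul_add _ a b)
        fun s s' => by ext a; simp [TensorProduct.add_tmul])
      (fun c s a => by
        simp only [AddMonoidHom.mk'_apply]
        rw [← IsScalarTower.algebraMap_smul R c a, ← TensorProduct.smul_tmul]
        congr 1
        show (c • s) ⊗ₜ[S] (1 : R) = ((1 : S') ⊗ₜ[S] algebraMap S R c) * (s ⊗ₜ[S] 1)
        rw [Algebra.TensorProduct.tmul_mul_tmul, one_mul, mul_one, TensorProduct.smul_tmul,
          Algebra.algebraMap_eq_smul_one]) z
    let e' : T ⊗[R] A →+ S' ⊗[S] A := TensorProduct.liftAddHom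
      (AddMonoidHom.mk' (fun t : T => (AddMonoidHom.mulLeft (toA S R A S' t)).comp
          (Algebra.TensorProduct.includeRight : A →ₐ[S] S' ⊗[S] A).toRingHom.toAddMonoidHom)
        fun t t' => by ext a; simp [add_mul])
      (fun r t a => by
        show toA S R A S' (r • t) * ((1 : S') ⊗ₜ[S] a) = toA S R A S' t * ((1 : S') ⊗ₜ[S] (r • a))
        rw [show r • t = t * ((1 : S') ⊗ₜ[S] r) from mul_comm _ _, map_mul, mul_assoc, toA_tmul,
          Algebra.TensorProduct.tmul_mul_tmul, one_mul, Algebra.smul_def])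
    have he : ∀ s a, e (s ⊗ₜ[S] a) = (s ⊗ₜ[S] (1 : R) : T) ⊗ₜ[R] a := fun s a => rfl
    have hea : ∀ x y, e (x + y) = e x + e y := fun x y => map_add _ x y
    have he0 : e 0 = 0 := map_zero _
    have hee : ∀ z, e' (e z) = z := fun z => by
      induction z using TensorProduct.induction_on with
      | zero => rw [he0, map_zero]
      | add x y hx hy => rw [hea, map_add, hx, hy]
      | tmul s a =>
        rw [he]
        show toA S R A S' (s ⊗ₜ[S] (1 : R)) * ((1 : S') ⊗ₜ[S] a) = _
        rw [toA_tmul, map_one, Algebra.TensorProduct.tmul_mul_tmul, mul_one, one_mul]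
    have hFe : ∀ z, Φ (e z) = F z := fun z => by
      induction z using TensorProduct.induction_on with
      | zero => rw [he0, map_zero, map_zero]
      | add x y hx hy => rw [hea, map_add, map_add, hx, hy]
      | tmul s a =>
        rw [he, hF]
        erw [Algebra.TensorProduct.lift_tmul (Algebra.ofId T _) θ']
        rw [IsScalarTower.algebraMap_apply S' T (Matrix (Fin n) (Fin n) T)]
        rfl
    have hΦ : Function.Bijective Φ := by
      refine Module.bijective_of_surjective_of_rankAtStalk_eq (φ := Φ.toLinearMap) (fun M => ?_) fun m hm => ?_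
      · obtain ⟨z, rfl⟩ := hsurj M
        exact ⟨e z, hFe z⟩
      · haveI : Nontrivial T := PrimeSpectrum.nontrivial (⟨m, inferInstance⟩ : PrimeSpectrum T)
        rw [Module.rankAtStalk_baseChange, hrk, Module.rankAtStalk_eq_finrank_of_free]
        simp [Module.finrank_matrix, sq]
    intro x y hxy
    rw [← hee x, ← hee y, hΦ.1 ((hFe x).trans (hxy.trans (hFe y).symm))]
  refine ⟨S', hS', hA', hE', hF', AlgEquiv.ofBijective F ⟨hinj, hsurj⟩, fun t z => ?_⟩
  show F _ = _ * F z
  rw [map_mul, hFj]

end Split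

theorem exists_inner_base [Algebra.IsIntegral S R] [IsAzumaya R A] (φ : A ≃ₐ[R] A) :
    ∃ (S'' : Type u) (_ : CommRing S'') (_ : Algebra S S'') (_ : Algebra.Etale S S'')
      (_ : Module.FaithfullyFlat S S'') (u : (S'' ⊗[S] A)ˣ),
      ∀ x : S'' ⊗[S] A,
        Algebra.TensorProduct.congr (AlgEquiv.refl : S'' ≃ₐ[S''] S'') (φ.restrictScalars S) x =
          ↑u * x * ↑u⁻¹ := by
  classical
  choose a b c hc hφ hab hba using fun p : PrimeSpectrum R => H23Az.exists_inner_near φ p.asIdeal
  have hspan : (1 : R) ∈ Ideal.span (Set.range c) := by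
    by_contra h1
    obtain ⟨m, hm, hle⟩ := Ideal.exists_le_maximal _ ((Ideal.ne_top_iff_one _).mpr h1)
    exact hc ⟨m, hm.isPrime⟩ (hle (Ideal.subset_span ⟨_, rfl⟩))
  obtain ⟨d, hd⟩ := Finsupp.mem_span_range_iff_exists_finsupp.mp hspan
  let I := d.support
  let C₀ := ∀ i : I, Localization.Away (c i.1)
  let C := ULift.{u} C₀
  haveI : ∀ i : I, Algebra.Etale R (Localization.Away (c i.1)) := fun i =>
    Algebra.Etale.of_isLocalizationAway (c i.1)
  haveI : Algebra.Etale R C₀ := inferInstance
  haveI : Algebra.Etale R C := Algebra.Etale.of_equiv (ULift.algEquiv (R := R) (A := C₀)).symm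
  have hC : Function.Surjective (PrimeSpectrum.comap (algebraMap R C)) := fun q => by
    obtain ⟨i, hi, hiq⟩ : ∃ i ∈ I, c i ∉ q.asIdeal := by
      by_contra h0
      push Not at h0
      refine q.2.ne_top ((Ideal.eq_top_iff_one _).mpr ?_)
      rw [← hd]
      exact Ideal.sum_mem _ fun i hi => Ideal.mul_mem_left _ _ (h0 i hi)
    obtain ⟨Q, hQ⟩ : q ∈ Set.range (PrimeSpectrum.comap (algebraMap R (Localization.Away (c i)))) := by
      rw [PrimeSpectrum.localization_away_comap_range (Localization.Away (c i)) (c i)]; exact hiq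
    exact ⟨Q.comap ((Pi.evalRingHom (fun i : I => Localization.Away (c i.1)) ⟨i, hi⟩).comp
      (ULift.ringEquiv : C ≃+* C₀).toRingHom), by rw [← PrimeSpectrum.comap_comp_apply, ← hQ]; rfl⟩
  obtain ⟨S', hS', hA', hE', hF', ψ, hψ⟩ := exists_refinement'.{u, v, v} S R C hC
  let η : A →ₐ[S] S' ⊗[S] A := Algebra.TensorProduct.includeRight
  let e : I → S' ⊗[S] R := fun i => ψ ⟨Pi.single i 1⟩
  let w : I → S' ⊗[S] R := fun i => ψ ⟨Pi.single i (IsLocalization.Away.invSelf (c i.1))⟩
  have hew : ∀ i j, i ≠ j → e i * w j = 0 := fun i j h => by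
    rw [← map_mul, ← map_zero ψ]; congr 1
    apply ULift.ext; funext k
    show (Pi.single i 1 : C₀) k * (Pi.single j (IsLocalization.Away.invSelf (c j.1)) : C₀) k = 0
    rcases eq_or_ne k i with rfl | hk
    · rw [Pi.single_eq_of_ne h, mul_zero]
    · rw [Pi.single_eq_of_ne hk, zero_mul]
  have hwc : ∀ i, e i * w i * ((1 : S') ⊗ₜ[S] c i.1) = e i := fun i => by
    rw [← hψ, ← map_mul, ← map_mul]; congr 1
    apply ULift.ext; funext k
    show (Pi.single i 1 : C₀) k * (Pi.single i (IsLocalization.Away.invSelf (c i.1)) : C₀) k *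
      algebraMap R (Localization.Away (c k.1)) (c i.1) = (Pi.single i 1 : C₀) k
    rcases eq_or_ne k i with rfl | hk
    · rw [Pi.single_eq_same, Pi.single_eq_same, one_mul, mul_comm, IsLocalization.Away.mul_invSelf]
    · rw [Pi.single_eq_of_ne hk, zero_mul, zero_mul]
  have hsum : ∑ i, e i = 1 := by
    rw [← map_sum, ← map_one ψ]; congr 1
    apply (ULift.ringEquiv : C ≃+* C₀).injective
    rw [map_sum, map_one]
    show ∑ i, (Pi.single i 1 : C₀) = 1
    exact Finset.univ_sum_single _
  let j := toA S R A S'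
  let P : (I → A) → (I → S' ⊗[S] R) → S' ⊗[S] A := fun x y => ∑ i, j (y i) * η (x i)
  have hmul : ∀ t t' x y, (j t * η x) * (j t' * η y) = j (t * t') * η (x * y) := fun t t' x y => by
    rw [mul_assoc, ← mul_assoc (η x), ← toA_commute, mul_assoc, ← mul_assoc (j t), ← map_mul, ← map_mul]
  have hprod : ∀ (x y : I → A) (p q : I → S' ⊗[S] R), (∀ i k, i ≠ k → p i * q k = 0) →
      P x p * P y q = ∑ i, j (p i * q i) * η (x i * y i) := by
    intro x y p q hpq
    simp only [P, Finset.sum_mul, Finset.mul_sum, hmul]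
    refine Finset.sum_congr rfl fun i _ => ?_
    rw [Finset.sum_eq_single i]
    · intro k _ hk
      first
        | rw [hpq i k (Ne.symm hk), map_zero, zero_mul]
        | rw [hpq k i hk, map_zero, zero_mul]
    · simp
  have hone : ∀ z : I → A, (∀ i, z i = algebraMap R A (c i.1)) →
      ∑ i, j (e i * w i) * η (z i) = 1 := fun z hz => by
    rw [← map_one j, ← hsum, map_sum]
    refine Finset.sum_congr rfl fun i _ => ?_
    rw [hz, show η (algebraMap R A (c i.1)) = j ((1 : S') ⊗ₜ[S] c i.1) from rfl, ← map_mul, hwc]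
  let U : (S' ⊗[S] A)ˣ :=
    { val := P (fun i => a i.1) e
      inv := P (fun i => b i.1) w
      val_inv := by rw [hprod _ _ _ _ hew]; exact hone _ fun i => hab i.1
      inv_val := by
        rw [hprod _ _ _ _ fun i k h => by rw [mul_comm]; exact hew k i (Ne.symm h)]
        simp only [mul_comm (w _)]
        exact hone _ fun i => hba i.1 }
  refine ⟨S', hS', hA', hE', hF', U, fun x => ?_⟩
  rw [Units.eq_mul_inv_iff_mul_eq]
  set Φ := Algebra.TensorProduct.congr (AlgEquiv.refl : S' ≃ₐ[S'] S') (φ.restrictScalars S)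
  induction x using TensorProduct.induction_on with
  | zero => simp
  | add x y hx hy => rw [map_add, add_mul, mul_add, hx, hy]
  | tmul s z =>
    have hΦ : Φ (s ⊗ₜ[S] z) = j (s ⊗ₜ[S] 1) * η (φ z) := by
      simp [Φ, j, toA_tmul, η]
    have hsz : s ⊗ₜ[S] z = j (s ⊗ₜ[S] 1) * η z := by simp [j, toA_tmul, η]
    rw [hΦ, hsz, mul_assoc, ← mul_assoc (U : S' ⊗[S] A), ← toA_commute, mul_assoc]
    congr 1
    simp only [U, P, Finset.mul_sum, Finset.sum_mul]
    refine Finset.sum_congr rfl fun i _ => ?_
    rw [← mul_assoc, ← toA_commute, mul_assoc, mul_assoc, ← map_mul, hφ, map_mul]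

end Groth.Agent.H23EtCover
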