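import Groth.Agent.H23EtCover.Refine
import Groth.Agent.H23EtCover.Split
import Groth.Agent.H23Az.Ops

/-! # Universe-polymorphic forms, and splitting after an étale cover of the base -/

set_option autoImplicit false

universe u v w x

open TensorProduct

namespace Groth.Agent.H23EtCover

attribute [-instance] ULift.smulLeft ULift.mulAction ULift.smulZeroClass ULift.distribSMul
  ULift.distribMulAction ULift.mulDistribMulAction ULift.smulWithZero ULift.mulActionWithZero ULift.module

theorem exists_refinement' (S : Type u) (R : Type v) [CommRing S] [CommRing R] [Algebra S R]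
    [Algebra.IsIntegral S R] (C : Type (max u v x)) [CommRing C] [Algebra R C] [Algebra.Etale R C]
    (hC : Function.Surjective (PrimeSpectrum.comap (algebraMap R C))) :
    ∃ (S' : Type u) (_ : CommRing S') (_ : Algebra S S') (_ : Algebra.Etale S S')
      (_ : Module.FaithfullyFlat S S'), ∃ ψ : C →+* S' ⊗[S] R,
        ∀ r : R, ψ (algebraMap R C r) = (1 : S') ⊗ₜ[S] r := by
  let S₁ := ULift.{max v x} S
  let R₁ := ULift.{max u x} R
  let dS : S₁ →+* S := (ULift.ringEquiv : S₁ ≃+* S).toRingHom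
  let dR : R₁ →+* R := (ULift.ringEquiv : R₁ ≃+* R).toRingHom
  letI : Algebra S₁ R₁ := ((algebraMap S R₁).comp dS).toAlgebra
  haveI : IsScalarTower S S₁ R₁ := .of_algebraMap_eq fun _ => rfl
  letI : Algebra R₁ C := ((algebraMap R C).comp dR).toAlgebra
  haveI : IsScalarTower R R₁ C := .of_algebraMap_eq fun _ => rfl
  haveI : Algebra.IsIntegral S R₁ :=
    ⟨fun r => by
      have := (Algebra.IsIntegral.isIntegral (R := S) r.down).map (ULift.algEquiv (R := S) (A := R)).symm.toAlgHom
      exact this⟩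
  haveI : Algebra.IsIntegral S₁ R₁ := Algebra.IsIntegral.tower_top (R := S)
  haveI : Algebra.Etale R R₁ := Algebra.Etale.of_equiv (ULift.algEquiv (R := R) (A := R)).symm
  haveI : Algebra.Etale R₁ C := Algebra.Etale.of_restrictScalars R R₁ C
  have hC₁ : Function.Surjective (PrimeSpectrum.comap (algebraMap R₁ C)) := fun p => by
    obtain ⟨Q, hQ⟩ := hC (p.comap (algebraMap R R₁))
    refine ⟨Q, PrimeSpectrum.comap_injective_of_surjective (algebraMap R R₁) (fun r => ⟨r.down, rfl⟩) ?_⟩
    rw [← hQ, ← PrimeSpectrum.comap_comp_apply]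
    rfl
  obtain ⟨S₂, hS₂, hA₂, hE₂, hF₂, ψ₂, hψ₂⟩ := exists_refinement (A := S₁) (B := R₁) (C := C) hC₁
  letI : Algebra S S₂ := ((algebraMap S₁ S₂).comp (algebraMap S S₁)).toAlgebra
  haveI : @IsScalarTower S S₁ S₂ Algebra.toSMul hA₂.toSMul Algebra.toSMul := .of_algebraMap_eq fun _ => rfl
  haveI : Algebra.Etale S S₁ := Algebra.Etale.of_equiv (ULift.algEquiv (R := S) (A := S)).symm
  haveI : Module.FaithfullyFlat S S₁ :=
    Module.FaithfullyFlat.of_linearEquiv _ _ (ULift.algEquiv (R := S) (A := S)).toLinearEquiv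
  haveI : Algebra.Etale S S₂ := Algebra.Etale.comp S S₁ S₂
  haveI : Module.FaithfullyFlat S S₂ := Module.FaithfullyFlat.trans S S₁ S₂
  obtain ⟨n, π, hπ, -⟩ := Algebra.FinitePresentation.out (R := S) (A := S₂)
  let S' := MvPolynomial (Fin n) S ⧸ RingHom.ker π
  let e : S' ≃ₐ[S] S₂ := Ideal.quotientKerAlgEquivOfSurjective hπ
  haveI : Algebra.Etale S S' := Algebra.Etale.of_equiv e.symm
  haveI : Module.FaithfullyFlat S S' := Module.FaithfullyFlat.of_linearEquiv _ _ e.toLinearEquiv
  letI : Algebra S₁ (S' ⊗[S] R) := ((algebraMap S (S' ⊗[S] R)).comp dS).toAlgebra' fun s x => Algebra.commutes (dS s) x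
  let a : S₂ →ₐ[S₁] S' ⊗[S] R :=
    { (Algebra.TensorProduct.includeLeftRingHom : S' →+* S' ⊗[S] R).comp e.symm.toAlgHom.toRingHom with
      commutes' := fun s => by
        show e.symm (algebraMap S S₂ s.down) ⊗ₜ[S] (1 : R) = algebraMap S (S' ⊗[S] R) s.down
        rw [AlgEquiv.commutes]; rfl }
  let b : R₁ →ₐ[S₁] S' ⊗[S] R :=
    { (Algebra.TensorProduct.includeRight : R →ₐ[S] S' ⊗[S] R).toRingHom.comp dR with
      commutes' := fun s =>
        (Algebra.TensorProduct.includeRight : R →ₐ[S] S' ⊗[S] R).commutes s.down }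
  let g : S₂ ⊗[S₁] R₁ →ₐ[S₁] S' ⊗[S] R := Algebra.TensorProduct.lift a b fun _ _ => Commute.all (S := S' ⊗[S] R) _ _
  refine ⟨S', inferInstance, inferInstance, inferInstance, inferInstance, g.toRingHom.comp ψ₂, fun r => ?_⟩
  show g (ψ₂ (algebraMap R₁ C ⟨r⟩)) = _
  rw [hψ₂]
  simp only [g, Algebra.TensorProduct.lift_tmul, map_one, one_mul]
  rfl

theorem exists_etale_splitting' (R : Type v) [CommRing R] (A : Type w) [Ring A] [Algebra R A]
    [IsAzumaya R A] (n : ℕ) (hrk : ∀ p : PrimeSpectrum R, Module.rankAtStalk (R := R) A p = n ^ 2) :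
    ∃ (U : Type (max v w x)) (_ : CommRing U) (_ : Algebra R U), Algebra.Etale R U ∧
      Module.FaithfullyFlat R U ∧
      ∃ θ : A →ₐ[R] Matrix (Fin n) (Fin n) U, Function.Surjective
        (Algebra.TensorProduct.lift (Algebra.ofId U (Matrix (Fin n) (Fin n) U)) θ
          fun x _ => Algebra.commutes x _) := by
  let R₁ := ULift.{max w x} R
  haveI : Algebra.Etale R R₁ := Algebra.Etale.of_equiv (ULift.algEquiv (R := R) (A := R)).symm
  haveI : Module.FaithfullyFlat R R₁ :=
    Module.FaithfullyFlat.of_linearEquiv _ _ (ULift.algEquiv (R := R) (A := R)).toLinearEquiv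
  haveI : IsAzumaya R₁ (R₁ ⊗[R] A) := H23Az.isAzumaya_baseChange R R₁ A
  obtain ⟨U, hU, hUA, hUE, hUF, θ₁, hθ₁⟩ := exists_etale_splitting (R := R₁) (R₁ ⊗[R] A) n
    fun p => by rw [Module.rankAtStalk_baseChange]; exact hrk _
  letI : Algebra R U := ((algebraMap R₁ U).comp (algebraMap R R₁)).toAlgebra
  haveI : @IsScalarTower R R₁ U Algebra.toSMul hUA.toSMul Algebra.toSMul := .of_algebraMap_eq fun _ => rfl
  let θ : A →ₐ[R] Matrix (Fin n) (Fin n) U :=
    (θ₁.restrictScalars R).comp Algebra.TensorProduct.includeRight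
  refine ⟨U, hU, inferInstance, Algebra.Etale.comp R R₁ U, Module.FaithfullyFlat.trans R R₁ U, θ, ?_⟩
  intro M
  obtain ⟨z, rfl⟩ := hθ₁.2 M
  induction z using TensorProduct.induction_on with
  | zero => exact ⟨0, by simp⟩
  | add a b ha hb =>
    obtain ⟨a', ha'⟩ := ha; obtain ⟨b', hb'⟩ := hb
    exact ⟨a' + b', by rw [map_add, ha', hb', map_add]⟩
  | tmul y c =>
    induction c using TensorProduct.induction_on with
    | zero => exact ⟨0, by simp⟩
    | add a b ha hb =>
      obtain ⟨a', ha'⟩ := ha; obtain ⟨b', hb'⟩ := hb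
      exact ⟨a' + b', by rw [map_add, ha', hb', TensorProduct.tmul_add, map_add]⟩
    | tmul r a =>
      refine ⟨(y * algebraMap R₁ U r) ⊗ₜ[R] a, ?_⟩
      erw [Algebra.TensorProduct.lift_tmul (Algebra.ofId U _) θ, Algebra.TensorProduct.lift_tmul (Algebra.ofId U _) θ₁]
      rw [map_mul, mul_assoc]
      congr 1
      show algebraMap U (Matrix (Fin n) (Fin n) U) (algebraMap R₁ U r) * θ₁ ((1 : R₁) ⊗ₜ[R] a) = _
      rw [← IsScalarTower.algebraMap_apply, ← Algebra.smul_def, ← map_smul, TensorProduct.smul_tmul', smul_eq_mul, mul_one]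

end Groth.Agent.H23EtCover
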