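import Groth.Agent.H18Et.IntegralSection
import Mathlib.RingTheory.Etale.Pi
import Mathlib.LinearAlgebra.TensorProduct.Pi
import Mathlib.RingTheory.RingHom.FaithfullyFlat

/-! # Étale covers of an integral algebra are refined by étale covers of the base -/

universe u

open CategoryTheory CategoryTheory.Limits AlgebraicGeometry TensorProduct

namespace Groth.Agent.H23EtCover

variable {A B : Type u} [CommRing A] [CommRing B] [Algebra A B]

theorem exists_refinement_near [Algebra.IsIntegral A B] {C : Type u} [CommRing C] [Algebra B C]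
    [Algebra.Etale B C] (hC : Function.Surjective (PrimeSpectrum.comap (algebraMap B C)))
    (y : PrimeSpectrum A) :
    ∃ (S : Type u) (_ : CommRing S) (_ : Algebra A S) (_ : Algebra.Etale A S),
      y ∈ Set.range (PrimeSpectrum.comap (algebraMap A S)) ∧
        ∃ ψ : C →+* S ⊗[A] B, ∀ b : B, ψ (algebraMap B C b) = (1 : S) ⊗ₜ[A] b := by
  obtain ⟨V, q, hq, ⟨v, hv⟩, a, ha⟩ :=
    H18Et.exists_etale_section_affine (A := A) (B := B) (C := C) y fun p _ => hC p
  obtain ⟨W, hW, hvW, -⟩ := TopologicalSpace.Opens.isBasis_iff_nbhd.mp V.isBasis_affineOpens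
    (TopologicalSpace.Opens.mem_top v)
  change IsAffineOpen W at hW
  let ρ : CommRingCat.of A ⟶ Γ(V, W) := Spec.preimage (hW.fromSpec ≫ q)
  have hρ : Spec.map ρ = hW.fromSpec ≫ q := Spec.map_preimage _
  letI : Algebra A Γ(V, W) := ρ.hom.toAlgebra
  have het : Algebra.Etale A Γ(V, W) := by
    have : Etale (Spec.map ρ) := by rw [hρ]; infer_instance
    exact (HasRingHomProperty.Spec_iff (P := @Etale)).1 this
  let T := CommRingCat.of ((Γ(V, W) : Type u) ⊗[A] B)
  let ιS : Γ(V, W) ⟶ T :=
    CommRingCat.ofHom (Algebra.TensorProduct.includeLeftRingHom : Γ(V, W) →+* Γ(V, W) ⊗[A] B)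
  let ιB : CommRingCat.of B ⟶ T :=
    CommRingCat.ofHom (Algebra.TensorProduct.includeRight : B →ₐ[A] Γ(V, W) ⊗[A] B).toRingHom
  have hcomm : (Spec.map ιS ≫ hW.fromSpec) ≫ q =
      Spec.map ιB ≫ Spec.map (CommRingCat.ofHom (algebraMap A B)) := by
    rw [Category.assoc, ← hρ, ← Spec.map_comp, ← Spec.map_comp]
    congr 1
    ext x
    exact ((Algebra.TensorProduct.includeRight : B →ₐ[A] Γ(V, W) ⊗[A] B).commutes x).symm
  let l := pullback.lift (Spec.map ιS ≫ hW.fromSpec) (Spec.map ιB) hcomm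
  refine ⟨Γ(V, W), inferInstance, inferInstance, het, ⟨hW.primeIdealOf ⟨v, hvW⟩, ?_⟩,
    (Spec.preimage (l ≫ a)).hom, fun b => ?_⟩
  · show (Spec.map ρ).base _ = y
    rw [hρ]; refine (Scheme.Hom.comp_apply _ _ _).trans ?_; erw [hW.fromSpec_primeIdealOf ⟨v, hvW⟩]
    exact hv
  · have : CommRingCat.ofHom (algebraMap B C) ≫ Spec.preimage (l ≫ a) = ιB := Spec.map_injective (by
      rw [Spec.map_comp, Spec.map_preimage, Category.assoc, ha, pullback.lift_snd])
    exact ConcreteCategory.congr_hom this b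

theorem exists_refinement [Algebra.IsIntegral A B] {C : Type u} [CommRing C] [Algebra B C]
    [Algebra.Etale B C] (hC : Function.Surjective (PrimeSpectrum.comap (algebraMap B C))) :
    ∃ (S : Type u) (_ : CommRing S) (_ : Algebra A S) (_ : Algebra.Etale A S) (_ : Module.FaithfullyFlat A S),
      ∃ ψ : C →+* S ⊗[A] B, ∀ b : B, ψ (algebraMap B C b) = (1 : S) ⊗ₜ[A] b := by
  classical
  choose S hS hA hE hy ψ hψ using fun y => exists_refinement_near (A := A) (B := B) hC y
  letI := hS
  letI := hA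
  haveI := hE
  have hopen : ∀ y, IsOpen (Set.range (PrimeSpectrum.comap (algebraMap A (S y)))) := fun y =>
    PrimeSpectrum.isOpenMap_comap_of_hasGoingDown_of_finitePresentation.isOpen_range
  obtain ⟨t, ht⟩ := isCompact_univ.elim_finite_subcover _ hopen fun y _ => Set.mem_iUnion.2 ⟨y, hy y⟩
  let P := ∀ i : t, S i.1
  haveI : Algebra.Etale A P := inferInstance
  haveI : Module.FaithfullyFlat A P := Module.FaithfullyFlat.of_comap_surjective fun q => by
    obtain ⟨i, hi⟩ := Set.mem_iUnion.1 (ht (Set.mem_univ q))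
    obtain ⟨hit, Q, hQ⟩ := Set.mem_iUnion.1 hi
    exact ⟨Q.comap (Pi.evalRingHom (fun i : t => S i.1) ⟨i, hit⟩), by
      rw [← PrimeSpectrum.comap_comp_apply, ← hQ]; rfl⟩
  let Γ : P ⊗[A] B →ₐ[A] ∀ i : t, S i.1 ⊗[A] B := Pi.algHom A _ fun i =>
    Algebra.TensorProduct.map (Pi.evalAlgHom A (fun i : t => S i.1) i) (AlgHom.id A B)
  have hΓ : Function.Bijective Γ := by
    have : ⇑Γ = ⇑(TensorProduct.piLeft A B fun i : t => S i.1) := funext fun z => by
      induction z using TensorProduct.induction_on with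
      | zero => simp
      | add x y hx hy => simp only [map_add, hx, hy]
      | tmul x b => ext i; simp [Γ, TensorProduct.piLeft]; rfl
    rw [this]; exact LinearEquiv.bijective _
  let eΓ := AlgEquiv.ofBijective Γ hΓ
  refine ⟨P, inferInstance, inferInstance, inferInstance, inferInstance,
    eΓ.symm.toAlgHom.toRingHom.comp (RingHom.pi fun i => ψ i.1), fun b => ?_⟩
  apply hΓ.1
  show eΓ (eΓ.symm _) = _
  rw [AlgEquiv.apply_symm_apply]
  funext i
  show ψ i.1 (algebraMap B C b) = _
  rw [hψ]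
  simp [Γ]

end Groth.Agent.H23EtCover
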